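import Groth.Agent.Lib.DualCx22.Coind
import Groth.Agent.Lib.DualCx22.Pointwise
import Groth.Agent.Lib.DualRing.ShriekIndep
import Groth.Agent.Lib.DCxRing.Stupid
import Groth.Prelude.Def_Disc
import Mathlib.CategoryTheory.Abelian.Injective.Extend
import Mathlib.CategoryTheory.Abelian.Injective.Resolution

/-! # The zeroth cohomology of the right adjoint of restriction on a module -/

set_option autoImplicit false
set_option linter.style.haveILetI false
universe u

open CategoryTheory CategoryTheory.Limits GrothLib.DualCx22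

attribute [local instance] HasDerivedCategory.standard

noncomputable section

namespace GrothLib.ShriekOmega29

variable {A B : Type u} [CommRing A] [CommRing B]

/-- Cycles in degree zero are the kernel of the differential. -/
def kerIso (I : CochainComplex (ModuleCat.{u} A) ℤ) : I.cycles 0 ≅ kernel (I.d 0 1) :=
  (I.cyclesIsKernel 0 1 (by simp)).conePointUniqueUpToIso (limit.isLimit _)

/-- A left exact functor commutes with the zeroth cohomology of a complex in nonnegative degrees. -/
def homologyZeroMapIso (F : ModuleCat.{u} A ⥤ ModuleCat.{u} B) [F.Additive]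
    [PreservesFiniteLimits F] (I : CochainComplex (ModuleCat.{u} A) ℤ) (h : IsZero (I.X (-1))) :
    ((F.mapHomologicalComplex (ComplexShape.up ℤ)).obj I).homology 0 ≅ F.obj (I.homology 0) :=
  (((F.mapHomologicalComplex (ComplexShape.up ℤ)).obj I).isoHomologyπ (-1) 0 (by simp)
      ((F.map_isZero h).eq_of_src _ _)).symm ≪≫
    kerIso ((F.mapHomologicalComplex (ComplexShape.up ℤ)).obj I) ≪≫
      (PreservesKernel.iso F (I.d 0 1)).symm ≪≫
        F.mapIso ((kerIso I).symm ≪≫
          I.isoHomologyπ (-1) 0 (by simp) (h.eq_of_src _ _))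

/-- The zeroth cohomology of `RA` on a module is the coinduced module. -/
theorem nonempty_HD_RA_inD (φ : A →+* B) (M : ModuleCat.{u} A) :
    Nonempty (Dual.HD B ((DualRing.Shriek.RA φ).obj (Dual.inD A M)) 0 ≃ₗ[B]
      (ModuleCat.coextendScalars.{u, u, u} φ).obj M) := by
  obtain ⟨⟨R⟩⟩ := (inferInstance : HasInjectiveResolution M)
  let I := R.cochainComplex
  haveI : I.IsKInjective := CochainComplex.isKInjective_of_injective I 0
  let ι : (HomologicalComplex.single (ModuleCat.{u} A) (ComplexShape.up ℤ) 0).obj M ⟶ I := R.ι'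
  haveI : QuasiIso ι := inferInstanceAs (QuasiIso R.ι')
  let eI : Dual.inD A M ≅ DRing.toD I :=
    ((GrothLib.DR.toDSingleIso 0 M) ≪≫
      (CategoryTheory.shiftFunctorZero' (Dual.D A) (-(0 : ℤ)) neg_zero).app _).symm ≪≫
      asIso (DerivedCategory.Q.map ι)
  obtain ⟨c⟩ := nonempty_coI_iso φ I (DualRing.Shriek.RA φ) (DualRing.Shriek.radj φ)
  haveI : PreservesFiniteLimits (ModuleCat.coextendScalars.{u, u, u} φ) :=
    haveI : PreservesLimitsOfSize.{0, 0} (ModuleCat.coextendScalars.{u, u, u} φ) :=
      (ModuleCat.restrictCoextendScalarsAdj.{u, u, u} φ).rightAdjoint_preservesLimits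
    PreservesLimitsOfSize.preservesFiniteLimits _
  have hz : IsZero (I.X (-1)) := CochainComplex.isZero_of_isStrictlyGE I 0 (-1) (by norm_num)
  exact ⟨(((DerivedCategory.homologyFunctor (ModuleCat.{u} B) 0).mapIso
      ((DualRing.Shriek.RA φ).mapIso eI ≪≫ c.symm)) ≪≫
    (DerivedCategory.homologyFunctorFactors (ModuleCat.{u} B) 0).app (coI φ I) ≪≫
    homologyZeroMapIso (ModuleCat.coextendScalars.{u, u, u} φ) I hz ≪≫
    (ModuleCat.coextendScalars.{u, u, u} φ).mapIso
      ((asIso (HomologicalComplex.homologyMap ι 0)).symm ≪≫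
        HomologicalComplex.singleObjHomologySelfIso (ComplexShape.up ℤ) 0 M)).toLinearEquiv⟩

/-- The coinduced ring is `Omega`. -/
theorem nonempty_coextend_equiv_omega (A B : Type u) [CommRing A] [CommRing B] [Algebra A B] :
    Nonempty ((ModuleCat.coextendScalars.{u, u, u} (algebraMap A B)).obj (ModuleCat.of A A) ≃ₗ[B]
      Disc.Omega A B) := by
  let e : B ≃ₗ[A] ((ModuleCat.restrictScalars.{u} (algebraMap A B)).obj (ModuleCat.of B B)) :=
    { toFun := fun x => x
      invFun := fun x => x
      map_add' := fun _ _ => rfl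
      map_smul' := fun a x => by rw [Algebra.smul_def, RingHom.id_apply]; rfl
      left_inv := fun _ => rfl
      right_inv := fun _ => rfl }
  refine ⟨{ toFun := fun f => ⟨LinearMap.comp f e.toLinearMap⟩
            invFun := fun φ => LinearMap.comp φ.toLinearMap e.symm.toLinearMap
            map_add' := fun f g => ?_
            map_smul' := fun b f => ?_
            left_inv := fun f => ?_
            right_inv := fun φ => ?_ }⟩
  · ext x; rfl
  · ext x
    show (b • f) (e x) = f (e (b * x))
    rw [mul_comm b x]
    rfl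
  · exact LinearMap.ext fun x => rfl
  · ext x; rfl

end GrothLib.ShriekOmega29
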